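import Cfsg.Agent.SolvSig.Equivariant
import Cfsg.Agent.Inv53.CharTwoEarly
import Cfsg.Agent.ZCGroup.Embedded
import Cfsg.Agent.BlocksCharsC.PGroupCenter
import Cfsg.Agent.S1295
import Cfsg.Agent.S0205

/-!
# The closure of the core functor over a normal elementary abelian subgroup of rank three

All centralisers of involutions are 2-constrained, `S` is a Sylow 2-subgroup and `E` is an elementary
abelian subgroup of `S` of order at least eight, normalised by `S`. Every elementary abelian subgroup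
of order at least four of the normaliser of `W = ⨆ θ e` has the same closure `W`.
-/

set_option autoImplicit false
set_option linter.style.haveILetI false
set_option linter.unusedSectionVars false

namespace CfsgLib.CoreKill63

open Cfsg Subgroup
open CfsgLib.SolvSig CfsgLib.Transitivity

variable {G : Type*} [Group G] [Finite G]

/-- The core functor. -/
def th (a : G) : Subgroup G := centralizerPPrimeCore 2 a

/-- The closure of the core functor. -/
def cl (F : Subgroup G) : Subgroup G := signalizerClosure F (th (G := G))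

/-- All involution centralisers are 2-constrained. -/
def Constr (G : Type*) [Group G] : Prop :=
  ∀ t : G, orderOf t = 2 → IsPConstrained 2 ↥(centralizer ({t} : Set G))

theorem th_conj (a g : G) : th (g * a * g⁻¹) = (th a).map (MulAut.conj g).toMonoidHom :=
  Cfsg.Agent.S1295.centralizerPPrimeCore_conj a g

theorem th_odd (a : G) : ¬ 2 ∣ Nat.card (th a) :=
  CfsgLib.Transitivity.not_dvd_centralizerPPrimeCore a

theorem th_props (a : G) :
    th a ≤ centralizer ({a} : Set G) ∧ ¬ 2 ∣ Nat.card (th a) ∧ Group.IsSolvable (th a) :=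
  ⟨map_subtype_le _, th_odd a, Cfsg.Agent.S0205.result
    (Nat.not_even_iff_odd.1 fun h => th_odd a (even_iff_two_dvd.1 h))⟩

/-- Balance in constrained centralisers. -/
theorem th_bal (hc : Constr G) {a b : G} (ha : orderOf a = 2) (hb : orderOf b = 2)
    (hab : a * b = b * a) : th a ⊓ centralizer {b} ≤ th b := by
  refine CfsgLib.Inv53.inf_le_core_map (hc b hb) ha (mem_centralizer_singleton_iff.2 hab)
    (th_props a).1 (Nat.not_even_iff_odd.1 fun h => th_odd a (even_iff_two_dvd.1 h)) ?_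
  exact inf_le_left.trans (CfsgLib.Components.le_normalizer_map_subtype_of_normal _ _)

theorem cl_map (F : Subgroup G) (g : G) :
    (cl F).map (MulAut.conj g).toMonoidHom = cl (F.map (MulAut.conj g).toMonoidHom) := by
  have key : ∀ (F : Subgroup G) (g : G),
      (cl F).map (MulAut.conj g).toMonoidHom ≤ cl (F.map (MulAut.conj g).toMonoidHom) := by
    intro F g
    simp only [cl, signalizerClosure, Subgroup.map_iSup]
    refine iSup_le fun x => ?_
    refine (th_conj (x : G) g).ge.trans (le_signalizerClosure (θ := th (G := G))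
      (mem_map_of_mem _ x.2.1) fun e => x.2.2 ?_)
    simpa using e
  refine le_antisymm (key F g) ?_
  have hcomp : ∀ X : Subgroup G, (X.map (MulAut.conj g).toMonoidHom).map (MulAut.conj g⁻¹).toMonoidHom = X :=
    fun X => by
      rw [Subgroup.map_map]
      convert Subgroup.map_id X
      ext x
      simp [mul_assoc]
  intro x hx
  have h := key (F.map (MulAut.conj g).toMonoidHom) g⁻¹ ⟨x, hx, rfl⟩
  rw [hcomp] at h
  exact ⟨_, h, by simp [mul_assoc]⟩

theorem card_ge_four_of {F : Subgroup G} {x y : G} (hx : x ∈ F) (hy : y ∈ F) (hx1 : x ≠ 1)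
    (hy1 : y ≠ 1) (hxy : x ≠ y) (hF : IsElementaryAbelian 2 F) : 2 ^ 2 ≤ Nat.card F := by
  haveI : Fact (Nat.Prime 2) := ⟨Nat.prime_two⟩
  refine pow_succ_le_card hF (k := 1) ?_
  by_contra hle
  rw [not_lt, pow_one] at hle
  have h3 : ({⟨1, F.one_mem⟩, ⟨x, hx⟩, ⟨y, hy⟩} : Set F).ncard = 3 := by
    rw [Set.ncard_eq_three]
    exact ⟨_, _, _, fun e => hx1 (congrArg Subtype.val e).symm,
      fun e => hy1 (congrArg Subtype.val e).symm, fun e => hxy (congrArg Subtype.val e), rfl⟩
  have := Set.ncard_le_card ({⟨1, F.one_mem⟩, ⟨x, hx⟩, ⟨y, hy⟩} : Set F)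
  omega

theorem elab_zpowers {a : G} (ha : a ^ 2 = 1) : IsElementaryAbelian 2 (zpowers a) := by
  refine ⟨inferInstance, fun x hx => ?_⟩
  obtain ⟨k, rfl⟩ := mem_zpowers_iff.mp hx
  rw [← zpow_natCast (a ^ k), ← zpow_mul, mul_comm, zpow_mul, zpow_natCast, ha, one_zpow]

theorem not_pRankLE_of_card {A : Subgroup G} (hA : IsElementaryAbelian 2 A) (h8 : 8 ≤ Nat.card A) :
    ¬ PRankLE 2 2 ↥A :=
  not_pRankLE_iff.2 ⟨A, le_rfl, hA, lt_of_lt_of_le (by norm_num) h8⟩

/-- Nested closures agree. -/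
theorem cl_eq_of_le (hc : Constr G) {F A : Subgroup G} (hA : IsElementaryAbelian 2 A)
    (h8 : 8 ≤ Nat.card A) (hF : 2 ^ 2 ≤ Nat.card F) (hFA : F ≤ A) : cl A = cl F := by
  haveI : Fact (Nat.Prime 2) := ⟨Nat.prime_two⟩
  exact closure_eq_of_le (fun a _ => th_props a) (fun a g _ => th_conj a g)
    (fun a b ha hb hab => th_bal hc ha.1 hb.1 hab) hA (not_pRankLE_of_card hA h8) hF hFA

/-- The standing data. -/
structure Setting (S : Sylow 2 G) (E : Subgroup G) : Prop where
  constr : Constr G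
  elab_E : IsElementaryAbelian 2 E
  eight : 8 ≤ Nat.card E
  le_S : E ≤ (S : Subgroup G)
  norm : (S : Subgroup G) ≤ normalizer (E : Set G)

variable {S : Sylow 2 G} {E : Subgroup G}

/-- A nontrivial element of `E` central in `S`. -/
theorem Setting.exists_central (h : Setting S E) :
    ∃ z ∈ E, z ≠ 1 ∧ ∀ s ∈ (S : Subgroup G), s * z = z * s := by
  haveI : Fact (Nat.Prime 2) := ⟨Nat.prime_two⟩
  haveI : (E.subgroupOf (S : Subgroup G)).Normal := (normal_subgroupOf_iff_le_normalizer h.le_S).2 h.norm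
  haveI : Nontrivial (E.subgroupOf (S : Subgroup G)) := by
    rw [← Finite.one_lt_card_iff_nontrivial, Nat.card_congr (subgroupOfEquivOfLe h.le_S).toEquiv]
    exact lt_of_lt_of_le (by norm_num) h.eight
  obtain ⟨z, hz, hz1⟩ := CfsgLib.BlocksCharsC.exists_mem_ne_one
    (CfsgLib.BlocksCharsC.inf_center_ne_bot S.2 (E.subgroupOf (S : Subgroup G)))
  exact ⟨z, hz.1, fun e => hz1 (Subtype.ext e), fun s hs =>
    congrArg Subtype.val (mem_center_iff.1 hz.2 ⟨s, hs⟩)⟩

/-- The fixed points of an involution on `E` have order at least four. -/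
theorem Setting.four_le_fixed (h : Setting S E) {a : G} (ha : a ∈ (S : Subgroup G)) (ha2 : a ^ 2 = 1) :
    2 ^ 2 ≤ Nat.card ↥(E ⊓ centralizer ({a} : Set G)) := by
  haveI : Fact (Nat.Prime 2) := ⟨Nat.prime_two⟩
  have hcomm : ∀ x ∈ E, ∀ y ∈ E, x * y = y * x := fun x hx y hy =>
    congrArg Subtype.val (h.elab_E.1.is_comm.comm ⟨x, hx⟩ ⟨y, hy⟩)
  have hconj : ∀ x ∈ E, a * x * a⁻¹ ∈ E := fun x hx => (mem_normalizer_iff.1 (h.norm ha) x).1 hx
  let φ : E →* E :=
    { toFun := fun x => ⟨x * (a * x * a⁻¹), E.mul_mem x.2 (hconj x x.2)⟩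
      map_one' := Subtype.ext (by simp)
      map_mul' := fun x y => Subtype.ext (by
        show (x * y : G) * (a * (x * y) * a⁻¹) = (x * (a * x * a⁻¹)) * (y * (a * y * a⁻¹))
        calc (x * y : G) * (a * (x * y) * a⁻¹) = x * (y * (a * x * a⁻¹)) * (a * y * a⁻¹) := by group
          _ = x * ((a * x * a⁻¹) * y) * (a * y * a⁻¹) := by rw [hcomm _ y.2 _ (hconj x x.2)]
          _ = (x * (a * x * a⁻¹)) * (y * (a * y * a⁻¹)) := by group) }
  have ha' : a⁻¹ = a := inv_eq_of_mul_eq_one_left (by rw [← pow_two, ha2])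
  set C := E ⊓ centralizer ({a} : Set G)
  have hker : Nat.card φ.ker ≤ Nat.card C := by
    refine Nat.card_le_card_of_injective (fun x => ⟨((x : E) : G), (x : E).2, ?_⟩) ?_
    · show _ ∈ centralizer ({a} : Set G)
      rw [mem_centralizer_singleton_iff]
      have hx := congrArg Subtype.val (MonoidHom.mem_ker.1 x.2)
      have hx2 := h.elab_E.2 _ (x : E).2
      rw [pow_two] at hx2
      have e : a * ((x : E) : G) * a⁻¹ = ((x : E) : G) :=
        (mul_left_cancel (hx.trans hx2.symm))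
      exact (mul_inv_eq_iff_eq_mul.1 e).symm
    · intro x y e
      exact Subtype.ext (Subtype.ext (congrArg (fun c : C => (c : G)) e :))
  have hran : Nat.card φ.range ≤ Nat.card C := by
    refine Nat.card_le_card_of_injective (fun x => ⟨((x : E) : G), (x : E).2, ?_⟩) ?_
    · show _ ∈ centralizer ({a} : Set G)
      obtain ⟨y, hy⟩ := x.2
      rw [mem_centralizer_singleton_iff, ← hy]
      show ((y : G) * (a * y * a⁻¹)) * a = a * ((y : G) * (a * y * a⁻¹))
      have e : a * ((y : G) * (a * y * a⁻¹)) * a⁻¹ = (y : G) * (a * y * a⁻¹) := by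
        have e2 : a * ((y : G) * (a * y * a⁻¹)) * a⁻¹ = (a * y * a⁻¹) * ((a * a) * y * (a * a)⁻¹) := by
          group
        rw [e2, ← pow_two, ha2, one_mul, inv_one, mul_one, hcomm _ (hconj y y.2) _ y.2]
      exact (mul_inv_eq_iff_eq_mul.1 e).symm
    · intro x y e
      exact Subtype.ext (Subtype.ext (congrArg (fun c : C => (c : G)) e :))
  have hcard : Nat.card E = Nat.card φ.ker * Nat.card φ.range := by
    rw [← φ.ker.card_mul_index, index_ker]
  refine pow_succ_le_card (elab_of_le_of_elab h.elab_E inf_le_left) (k := 1) ?_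
  by_contra hle
  rw [not_lt, pow_one] at hle
  have := Nat.mul_le_mul (hker.trans hle) (hran.trans hle)
  have := h.eight
  omega

/-- An elementary abelian overgroup of order at least eight of an involution of `S`. -/
theorem Setting.exists_A (h : Setting S E) {a : G} (ha : a ∈ (S : Subgroup G)) (ha2 : a ^ 2 = 1) :
    ∃ A : Subgroup G, IsElementaryAbelian 2 A ∧ 8 ≤ Nat.card A ∧ A ≤ (S : Subgroup G) ∧ a ∈ A ∧
      (∀ e ∈ E, e * a = a * e → e ∈ A) ∧ cl A = cl E := by
  haveI : Fact (Nat.Prime 2) := ⟨Nat.prime_two⟩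
  by_cases haE : a ∈ E
  · exact ⟨E, h.elab_E, h.eight, h.le_S, haE, fun e he _ => he, rfl⟩
  set C := E ⊓ centralizer ({a} : Set G)
  have hC := elab_of_le_of_elab h.elab_E (inf_le_left : C ≤ E)
  have h4 := h.four_le_fixed ha ha2
  have hA : IsElementaryAbelian 2 (C ⊔ zpowers a : Subgroup G) := isElementaryAbelian_sup hC
    (elab_zpowers ha2) (zpowers_le.2 (mem_centralizer_iff.2 fun c hc =>
      mem_centralizer_singleton_iff.1 hc.2))
  have hlt : C < C ⊔ zpowers a := lt_of_le_of_ne le_sup_left fun e =>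
    haE (mem_inf.1 (e ▸ mem_sup_right (mem_zpowers a) : a ∈ C)).1
  have hclt : Nat.card C < Nat.card ↥(C ⊔ zpowers a) := by
    refine lt_of_le_of_ne (Subgroup.card_le_of_le hlt.le) fun e => hlt.ne ?_
    exact eq_of_le_of_card_ge hlt.le e.ge
  have h8 : 8 ≤ Nat.card ↥(C ⊔ zpowers a) :=
    pow_succ_le_card hA (k := 2) (lt_of_le_of_lt h4 hclt)
  refine ⟨C ⊔ zpowers a, hA, h8, sup_le (inf_le_left.trans h.le_S) (zpowers_le.2 ha),
    mem_sup_right (mem_zpowers a), fun e he hea =>
      mem_sup_left ⟨he, mem_centralizer_singleton_iff.2 hea⟩, ?_⟩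
  rw [cl_eq_of_le h.constr hA h8 h4 le_sup_left, cl_eq_of_le h.constr h.elab_E h.eight h4 inf_le_left]

/-- All closures inside `S` agree. -/
theorem Setting.cl_eq_of_le_sylow (h : Setting S E) {F : Subgroup G} (hF : IsElementaryAbelian 2 F)
    (h4 : 2 ^ 2 ≤ Nat.card F) (hFS : F ≤ (S : Subgroup G)) :
    cl F = cl E ∧ ∃ A : Subgroup G, IsElementaryAbelian 2 A ∧ 8 ≤ Nat.card A ∧ F ≤ A := by
  haveI : Fact (Nat.Prime 2) := ⟨Nat.prime_two⟩
  obtain ⟨z, hzE, hz1, hzc⟩ := h.exists_central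
  obtain ⟨f, hfF, hfz⟩ : ∃ f ∈ F, f ∉ zpowers z := by
    by_contra hall
    push Not at hall
    have h1 := Subgroup.card_le_of_le (show F ≤ zpowers z from hall)
    rw [Nat.card_zpowers] at h1
    have h2 := Nat.le_of_dvd (by norm_num) (orderOf_dvd_of_pow_eq_one (h.elab_E.2 z hzE))
    omega
  have hf1 : f ≠ 1 := fun e => hfz (e ▸ one_mem _)
  have hfzne : f ≠ z := fun e => hfz (e ▸ mem_zpowers z)
  obtain ⟨A, hA, hA8, -, hfA, hEA, hclA⟩ := h.exists_A (hFS hfF) (hF.2 f hfF)
  have hzA : z ∈ A := hEA z hzE (hzc f (hFS hfF)).symm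
  set P := zpowers f ⊔ zpowers z
  have hPA : P ≤ A := sup_le (zpowers_le.2 hfA) (zpowers_le.2 hzA)
  have hP4 : 2 ^ 2 ≤ Nat.card P :=
    card_ge_four_of (mem_sup_left (mem_zpowers f)) (mem_sup_right (mem_zpowers z)) hf1 hz1 hfzne
      (elab_of_le_of_elab hA hPA)
  set F' := F ⊔ zpowers z with hF'
  have hPF' : P ≤ F' := sup_le ((zpowers_le.2 hfF).trans le_sup_left) le_sup_right
  have hF'e : IsElementaryAbelian 2 F' := isElementaryAbelian_sup hF (elab_zpowers (h.elab_E.2 z hzE))
    (zpowers_le.2 (mem_centralizer_iff.2 fun x hx => hzc x (hFS hx)))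
  by_cases h8 : 8 ≤ Nat.card F'
  · exact ⟨(cl_eq_of_le h.constr hF'e h8 h4 le_sup_left).symm.trans
      ((cl_eq_of_le h.constr hF'e h8 hP4 hPF').trans
        ((cl_eq_of_le h.constr hA hA8 hP4 hPA).symm.trans hclA)), F', hF'e, h8, le_sup_left⟩
  · have hle4 : Nat.card F' ≤ 4 := by
      obtain ⟨n, hn⟩ := (isPGroup_of_elab hF'e).exists_card_eq
      rw [hn] at h8 ⊢
      have : n ≤ 2 := by
        by_contra hn2
        exact h8 (show 2 ^ 3 ≤ 2 ^ n from Nat.pow_le_pow_right (by norm_num) (by omega))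
      exact Nat.pow_le_pow_right (by norm_num) this
    have e1 : F = F' := eq_of_le_of_card_ge le_sup_left (hle4.trans h4)
    have e2 : P = F' := eq_of_le_of_card_ge hPF' (hle4.trans hP4)
    have hFA : F ≤ A := by rw [e1, ← e2]; exact hPA
    exact ⟨by rw [← cl_eq_of_le h.constr hA hA8 h4 hFA, hclA], A, hA, hA8, hFA⟩

theorem Setting.sylow_le_normalizer (h : Setting S E) : (S : Subgroup G) ≤ normalizer (cl E : Set G) := by
  intro s hs
  rw [mem_normalizer_iff_map_conj_eq]
  exact (cl_map E s).trans (congrArg cl (mem_normalizer_iff_map_conj_eq.1 (h.norm hs)))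

theorem Setting.cl_odd (h : Setting S E) : Odd (Nat.card (cl E)) := by
  haveI : Fact (Nat.Prime 2) := ⟨Nat.prime_two⟩
  refine Nat.not_even_iff_odd.1 fun he => ?_
  exact (isSolvable_signalizerClosure h.elab_E h.eight
    (restrict_isSolvableSignalizerFunctor (fun a _ => th_props a) (fun a g _ => th_conj a g)
      (fun a b ha hb hab => th_bal h.constr ha.1 hb.1 hab) h.elab_E
      (not_pRankLE_of_card h.elab_E h.eight))).2 (even_iff_two_dvd.1 he)

/-- A 2-subgroup of `N(W)` is conjugate in `N(W)` into `S`. -/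
theorem Setting.exists_conj_le (h : Setting S E) {F : Subgroup G} (hF : IsPGroup 2 F)
    (hFM : F ≤ normalizer (cl E : Set G)) :
    ∃ m ∈ normalizer (cl E : Set G), F.map (MulAut.conj m).toMonoidHom ≤ (S : Subgroup G) := by
  obtain ⟨k, hk, hkF⟩ :=
    CfsgLib.ZCGroup.exists_conj_mem_sylow (S.subtype h.sylow_le_normalizer) hF hFM
  refine ⟨k, hk, ?_⟩
  rintro _ ⟨x, hx, rfl⟩
  obtain ⟨y, hy, e⟩ := hkF x hx
  have hy' : (y : G) ∈ (S : Subgroup G) := hy
  have e' : (y : G) = k * x * k⁻¹ := e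
  show k * x * k⁻¹ ∈ (S : Subgroup G)
  rw [← e']
  exact hy'

/-- All closures inside `N(W)` agree. -/
theorem Setting.cl_eq (h : Setting S E) {F : Subgroup G} (hF : IsElementaryAbelian 2 F)
    (h4 : 2 ^ 2 ≤ Nat.card F) (hFM : F ≤ normalizer (cl E : Set G)) : cl F = cl E := by
  haveI : Fact (Nat.Prime 2) := ⟨Nat.prime_two⟩
  obtain ⟨m, hm, hle⟩ := h.exists_conj_le (isPGroup_of_elab hF) hFM
  have h1 := (h.cl_eq_of_le_sylow (isElementaryAbelian_map hF _)
    (by rw [card_map_of_injective (MulAut.conj m).injective]; exact h4) hle).1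
  exact map_injective (MulAut.conj m).injective
    ((cl_map F m).trans (h1.trans (mem_normalizer_iff_map_conj_eq.1 hm).symm))

/-- **The key property**: `N(W)` contains everything carrying a four-group of `N(W)` into `N(W)`. -/
theorem Setting.key (h : Setting S E) {F : Subgroup G} (hF : IsElementaryAbelian 2 F)
    (h4 : 2 ^ 2 ≤ Nat.card F) (hFM : F ≤ normalizer (cl E : Set G)) {g : G}
    (hg : F.map (MulAut.conj g).toMonoidHom ≤ normalizer (cl E : Set G)) :
    g ∈ normalizer (cl E : Set G) := by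
  rw [mem_normalizer_iff_map_conj_eq]
  have h1 := h.cl_eq (isElementaryAbelian_map hF _)
    (by rw [card_map_of_injective (MulAut.conj g).injective]; exact h4) hg
  have h2 := (cl_map F g).trans h1
  rw [h.cl_eq hF h4 hFM] at h2
  exact h2

/-- An involution of `N(W)` lies in an elementary abelian subgroup of order eight of `N(W)`. -/
theorem Setting.exists_eight (h : Setting S E) {t : G} (ht : t ∈ normalizer (cl E : Set G))
    (ho : orderOf t = 2) : ∃ A : Subgroup G, IsElementaryAbelian 2 A ∧ 8 ≤ Nat.card A ∧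
      A ≤ normalizer (cl E : Set G) ∧ t ∈ A ∧ th t ≤ cl E := by
  haveI : Fact (Nat.Prime 2) := ⟨Nat.prime_two⟩
  obtain ⟨m, hm, hle⟩ := h.exists_conj_le (CfsgLib.ZCGroup.isPGroup_zpowers_of_orderOf ho)
    (zpowers_le.2 ht)
  have hmt : m * t * m⁻¹ ∈ (S : Subgroup G) := hle ⟨t, mem_zpowers t, rfl⟩
  obtain ⟨A, hA, h8, hAS, htA, -, hcl⟩ := h.exists_A hmt (by
    rw [conj_pow, ← ho, pow_orderOf_eq_one, mul_one, mul_inv_cancel])
  have hA' : IsElementaryAbelian 2 (A.map (MulAut.conj m⁻¹).toMonoidHom) := isElementaryAbelian_map hA _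
  have h8' : 8 ≤ Nat.card (A.map (MulAut.conj m⁻¹).toMonoidHom) := by
    rw [card_map_of_injective (MulAut.conj m⁻¹).injective]; exact h8
  have hA'M : A.map (MulAut.conj m⁻¹).toMonoidHom ≤ normalizer (cl E : Set G) := by
    rintro _ ⟨x, hx, rfl⟩
    simpa [mul_assoc] using mul_mem (mul_mem (inv_mem hm) (h.sylow_le_normalizer (hAS hx))) hm
  have htA' : t ∈ A.map (MulAut.conj m⁻¹).toMonoidHom := ⟨_, htA, by simp [mul_assoc]⟩
  refine ⟨_, hA', h8', hA'M, htA', ?_⟩
  rw [← h.cl_eq hA' (le_trans (by norm_num) h8') hA'M]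
  exact le_signalizerClosure htA' fun e => by simp [e] at ho

end CfsgLib.CoreKill63
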