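import Cfsg.Agent.CoreKill63.Main
import Cfsg.Agent.MaxNormalizer.Basic

/-!
# Cores of involution centralisers for groups with `SCN₃(2)` nonempty

Solvable, or 2-constrained, involution centralisers and `O(G) = 1`.
-/

set_option autoImplicit false
set_option linter.style.haveILetI false

namespace CfsgLib.CoreKill63

open Cfsg Subgroup

universe u

variable {G : Type u} [Group G] [Finite G]

/-- A normal abelian subgroup of rank three of a Sylow 2-subgroup gives the standing data. -/
theorem exists_setting (hc : Constr G) (S : Sylow 2 G) (A : Subgroup G) (hAS : A ≤ (S : Subgroup G))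
    (hAn : (A.subgroupOf (S : Subgroup G)).Normal) (hA : IsMulCommutative A)
    (h3 : ¬ PRankLE 2 2 A) : ∃ E, Setting S E := by
  haveI : Fact (Nat.Prime 2) := ⟨Nat.prime_two⟩
  have hcomm : ∀ x ∈ A, ∀ y ∈ A, Commute x y := fun x hx y hy =>
    (congrArg Subtype.val (hA.is_comm.comm ⟨x, hx⟩ ⟨y, hy⟩) :)
  let E : Subgroup G :=
    { carrier := {x | x ∈ A ∧ x ^ 2 = 1}
      one_mem' := ⟨A.one_mem, one_pow 2⟩
      mul_mem' := fun {a b} ha hb => ⟨A.mul_mem ha.1 hb.1, by
        rw [(hcomm a ha.1 b hb.1).mul_pow, ha.2, hb.2, mul_one]⟩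
      inv_mem' := fun {a} ha => ⟨A.inv_mem ha.1, by rw [inv_pow, ha.2, inv_one]⟩ }
  have hE : IsElementaryAbelian 2 E :=
    ⟨⟨⟨fun x y => Subtype.ext (hcomm x x.2.1 y y.2.1).eq⟩⟩, fun x hx => hx.2⟩
  refine ⟨E, hc, hE, ?_, fun x hx => hAS hx.1, fun s hs => ?_⟩
  · obtain ⟨B, hBA, hB, hlt⟩ := CfsgLib.SolvSig.not_pRankLE_iff.1 h3
    exact (CfsgLib.SolvSig.pow_succ_le_card hB hlt).trans
      (Subgroup.card_le_of_le fun b hb => ⟨hBA hb, hB.2 b hb⟩)
  · have hn : s ∈ normalizer (A : Set G) := (normal_subgroupOf_iff_le_normalizer hAS).1 hAn hs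
    rw [mem_normalizer_iff]
    intro x
    refine and_congr ((mem_normalizer_iff.1 hn) x) ?_
    rw [conj_pow, mul_inv_eq_one, mul_eq_left]

/-- S3332 from the core property of strongly embedded subgroups. -/
theorem cores_trivial_of_solvable (hB : CoreInCore G) (hO : oddCore G = ⊥) (S : Sylow 2 G)
    (A : Subgroup G) (hAS : A ≤ (S : Subgroup G)) (hAn : (A.subgroupOf (S : Subgroup G)).Normal)
    (hA : IsMulCommutative A) (h3 : ¬ PRankLE 2 2 A)
    (hsol : ∀ t : G, orderOf t = 2 → Group.IsSolvable (centralizer ({t} : Set G))) (t : G)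
    (ht : orderOf t = 2) : oddCore (centralizer ({t} : Set G)) = ⊥ := by
  haveI : Fact (Nat.Prime 2) := ⟨Nat.prime_two⟩
  obtain ⟨E, h⟩ := exists_setting (fun s hs => CfsgLib.PLocal.isPConstrained_of_isPSolvable
    (haveI := hsol s hs; CfsgLib.PLocal.isPSolvable_of_isSolvable)) S A hAS hAn hA h3
  exact (Subgroup.map_eq_bot_iff_of_injective _ (subtype_injective _)).1 (h.th_eq_bot hB hO ht)

/-- S3109 from the core property of strongly embedded subgroups. -/
theorem cores_trivial_of_constrained (hB : CoreInCore G) [IsSimpleGroup G]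
    (hG : ¬ IsMulCommutative G)
    (h2c : ∀ T : Subgroup G, IsPGroup 2 T → T ≠ ⊥ → IsPConstrained 2 ↥(normalizer (T : Set G)))
    (S : Sylow 2 G) (A : Subgroup ↥(S : Subgroup G)) (hAn : A.Normal) (hAab : IsMulCommutative A)
    (hA3 : ¬ PRankLE 2 2 A) (t : G) (ht : orderOf t = 2) : centralizerPPrimeCore 2 t = ⊥ := by
  haveI : Fact (Nat.Prime 2) := ⟨Nat.prime_two⟩
  have hc : Constr G := fun s hs => CfsgLib.PLocal.isPConstrained_congr
    (MulEquiv.subgroupCongr (CfsgLib.MaxNormalizer.normalizer_zpowers_invol hs))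
    (h2c (zpowers s) (CfsgLib.ZCGroup.isPGroup_zpowers_of_orderOf hs)
      (fun e => by rw [zpowers_eq_bot] at e; simp [e] at hs))
  have hO : oddCore G = ⊥ := by
    rcases (inferInstance : (oddCore G).Normal).eq_bot_or_eq_top with h | h
    · exact h
    · exfalso
      have h2 := Nat.coprime_two_right.1 (CfsgLib.PLocal.coprime_card_pPrimeCore 2 G)
      rw [show pPrimeCore 2 G = ⊤ from h, card_top] at h2
      exact Nat.not_even_iff_odd.2 h2 (even_iff_two_dvd.2 (ht ▸ orderOf_dvd_natCard t))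
  have hAS : A.map (S : Subgroup G).subtype ≤ (S : Subgroup G) := map_subtype_le _
  obtain ⟨E, h⟩ := exists_setting hc S (A.map (S : Subgroup G).subtype) hAS
    (by rw [subgroupOf, comap_map_eq_self_of_injective (subtype_injective _)]; exact hAn)
    inferInstance (fun hr => hA3 fun B hB hexp => by
      let e := A.equivMapOfInjective _ (subtype_injective (S : Subgroup G))
      rw [← card_map_of_injective (f := e.toMonoidHom) e.injective]
      refine hr _ inferInstance ?_
      rintro _ ⟨b, hb, rfl⟩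
      rw [← map_pow, hexp b hb, map_one])
  exact h.th_eq_bot hB hO ht

end CfsgLib.CoreKill63
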