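import Cfsg.Agent.CoreKill63.Basic
import Cfsg.Agent.LocalEven49.OddAutOneInvolution
import Cfsg.Agent.MaxNormalizer.CentralCase
import Cfsg.Agent.Small.StronglyEmbedded

/-!
# Constrained involution centralisers with a normal elementary subgroup of order eight

The normaliser of `W` contains the centralisers of its involutions, hence is all of `G` or strongly
embedded; given that strongly embedded subgroups have their cores in the core of `G`, all cores of
involution centralisers are trivial when `O(G) = 1`.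
-/

set_option autoImplicit false
set_option linter.style.haveILetI false
set_option linter.unusedSectionVars false

namespace CfsgLib.CoreKill63

open Cfsg Subgroup

universe u

theorem card_center_q8 : Nat.card (Subgroup.center (QuaternionGroup 2)) ≤ 2 := by
  classical
  rw [Nat.card_eq_fintype_card]
  decide +kernel

/-- A constrained group with one involution in its 2-core and a large elementary subgroup is a
2-group. -/
theorem isPGroup_of_unique {Q : Type*} [Group Q] [Finite Q]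
    (hQ : centralizer (pCore 2 Q : Set Q) ≤ pCore 2 Q)
    (hu : TwoGroupsQ.HasUniqueOrderP ↥(pCore 2 Q) 2) {A : Subgroup Q}
    (hA : IsElementaryAbelian 2 A) (h8 : 8 ≤ Nat.card A) : IsPGroup 2 Q := by
  classical
  haveI : Fact (Nat.Prime 2) := ⟨Nat.prime_two⟩
  set T := pCore 2 Q with hT
  have hTp : IsPGroup 2 T := CfsgLib.PLocal.isPGroup_pCore 2 Q
  let ρ : Q →* MulAut T := MulAut.conjNormal
  have hker : ∀ x : Q, ρ x = 1 → x ∈ T := fun x hx => hQ (mem_centralizer_iff.2 fun y hy => by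
    have h := congrArg Subtype.val (MulEquiv.congr_fun hx (⟨y, hy⟩ : T))
    simp only [ρ, MulAut.conjNormal_apply, MulAut.one_apply] at h
    exact (mul_inv_eq_iff_eq_mul.1 h).symm)
  by_contra hnot
  obtain ⟨p, hp, hp2, hpd⟩ : ∃ p, p.Prime ∧ p ≠ 2 ∧ p ∣ Nat.card Q := by
    by_contra hall
    push Not at hall
    obtain ⟨k, hk⟩ : ∃ k, Nat.card Q = 2 ^ k := ⟨_, Nat.eq_prime_pow_of_unique_prime_dvd
      Nat.card_pos.ne' fun hd hdd => by_contra fun hne => hall _ hd hne hdd⟩
    exact hnot (IsPGroup.of_card hk)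
  haveI := Fact.mk hp
  obtain ⟨x, hx⟩ := exists_prime_orderOf_dvd_card' p hpd
  rcases OddAutOneInvolution.eq_one_or_q8 hTp hu hp2 (ρ x)
    (by rw [← map_pow, ← hx, pow_orderOf_eq_one, map_one]) with h | ⟨-, ⟨e⟩⟩
  · obtain ⟨i, hi⟩ := IsPGroup.iff_orderOf.1 hTp ⟨x, hker x h⟩
    rw [orderOf_mk, hx] at hi
    exact hp2 ((Nat.prime_dvd_prime_iff_eq hp Nat.prime_two).1 (hp.dvd_of_dvd_pow (dvd_of_eq hi)))
  -- `|Q|` divides `48`, but a subgroup `A T` has order at least `32`
  have hk : Nat.card ρ.ker ≤ 2 := by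
    refine le_trans (Nat.card_le_card_of_injective (fun z => (⟨e ⟨z, hker z z.2⟩, ?_⟩ :
      Subgroup.center (QuaternionGroup 2))) fun a b hab => ?_) card_center_q8
    · rw [mem_center_iff]
      intro q
      obtain ⟨y, rfl⟩ := e.surjective q
      rw [← map_mul, ← map_mul]
      refine congrArg e (Subtype.ext ?_)
      have hz := congrArg Subtype.val (MulEquiv.congr_fun (MonoidHom.mem_ker.1 z.2) y)
      simp only [ρ, MulAut.conjNormal_apply, MulAut.one_apply] at hz
      exact (mul_inv_eq_iff_eq_mul.1 hz).symm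
    · exact Subtype.ext (congrArg (fun w : T => (w : Q)) (e.injective (congrArg Subtype.val hab)) :)
  have hQdvd : Nat.card Q ∣ Nat.card ρ.ker * 24 := by
    rw [← ρ.ker.card_mul_index, index_ker]
    refine Nat.mul_dvd_mul_left _ ?_
    rw [← OddAutOneInvolution.card_mulAut_q8, ← Nat.card_congr (MulAut.congr e).toEquiv]
    exact Subgroup.card_subgroup_dvd_card _
  have hT8 : Nat.card T = 8 := by
    rw [Nat.card_congr e.toEquiv, Nat.card_eq_fintype_card, QuaternionGroup.card]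
  have hAT : Nat.card ↥(A ⊓ T) ≤ 2 := by
    have key : ∀ a b : ↥(A ⊓ T), a ≠ 1 → b ≠ 1 → a = b := fun a b ha hb => by
      have hb2 : (⟨b, b.2.2⟩ : T) ^ 2 = 1 := Subtype.ext (hA.2 b b.2.1)
      obtain ⟨k, hk⟩ := mem_zpowers_iff.1 (hu (⟨a, a.2.2⟩ : T) ⟨b, b.2.2⟩
        (Subtype.ext (hA.2 a a.2.1)) hb2 (fun e => hb (Subtype.ext (congrArg (fun w : T => (w : Q)) e :))))
      rcases Int.even_or_odd' k with ⟨i, rfl | rfl⟩
      · refine absurd ?_ ha
        exact Subtype.ext (congrArg (fun w : T => (w : Q))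
          ((hk.symm.trans (by rw [zpow_mul, zpow_ofNat, hb2, one_zpow])) : (⟨a, a.2.2⟩ : T) = 1) :)
      · exact Subtype.ext (congrArg (fun w : T => (w : Q))
          ((hk.symm.trans (by rw [zpow_add, zpow_mul, zpow_ofNat, hb2, one_zpow, one_mul, zpow_one]))
            : (⟨a, a.2.2⟩ : T) = ⟨b, b.2.2⟩) :)
    by_contra hlt
    obtain ⟨a, b, c, -, hab, hac, hbc⟩ : ∃ a b c : ↥(A ⊓ T), True ∧ a ≠ b ∧ a ≠ c ∧ b ≠ c := by
      haveI := Fintype.ofFinite ↥(A ⊓ T)
      rw [not_le, Nat.card_eq_fintype_card, Fintype.two_lt_card_iff] at hlt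
      obtain ⟨a, b, c, h⟩ := hlt
      exact ⟨a, b, c, trivial, h⟩
    by_cases h1 : a = 1
    · exact hbc (key b c (fun e => hab (h1.trans e.symm)) (fun e => hac (h1.trans e.symm)))
    · by_cases h2 : b = 1
      · exact hac (key a c h1 (fun e => hbc (h2.trans e.symm)))
      · exact hab (key a b h1 h2)
  have hAp : IsPGroup 2 A := CfsgLib.Transitivity.isPGroup_of_elab hA
  obtain ⟨n, hn⟩ := IsPGroup.iff_card.1 (hAp.to_sup_of_normal_right hTp)
  have hprod : Nat.card ↥(A ⊔ T) * Nat.card ↥(A ⊓ T) = Nat.card A * Nat.card T := by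
    have h1 := relIndex_mul_relIndex (⊥ : Subgroup Q) T (A ⊔ T) bot_le le_sup_right
    have h2 := relIndex_mul_relIndex (⊥ : Subgroup Q) (A ⊓ T) A bot_le inf_le_left
    rw [relIndex_bot_left, relIndex_bot_left, relIndex_sup_right] at h1
    rw [relIndex_bot_left, relIndex_bot_left, inf_relIndex_left] at h2
    rw [← h1, ← h2]; ring
  rw [hn, hT8] at hprod
  have hn5 : 5 ≤ n := by
    by_contra hn5
    have hmul := Nat.mul_le_mul (Nat.pow_le_pow_right (show 0 < 2 by norm_num) (show n ≤ 4 by omega))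
      hAT
    omega
  have h32 : 32 ∣ Nat.card ρ.ker * 24 :=
    ((pow_dvd_pow 2 hn5).trans (hn ▸ Subgroup.card_subgroup_dvd_card _)).trans hQdvd
  have hpos : 0 < Nat.card ρ.ker := Nat.card_pos
  generalize hgen : Nat.card ρ.ker = k at hk h32 hpos
  interval_cases k <;> omega

variable {G : Type u} [Group G] [Finite G] {S : Sylow 2 G} {E : Subgroup G}

/-- **`N(W)` contains the centralisers of its involutions.** -/
theorem Setting.centralizer_le (h : Setting S E) {t : G} (ht : t ∈ normalizer (cl E : Set G))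
    (ho : orderOf t = 2) : centralizer ({t} : Set G) ≤ normalizer (cl E : Set G) := by
  classical
  haveI : Fact (Nat.Prime 2) := ⟨Nat.prime_two⟩
  set M := normalizer (cl E : Set G) with hM
  set C := centralizer ({t} : Set G) with hC
  obtain ⟨A, hA, h8, hAM, htA, hth⟩ := h.exists_eight ht ho
  have hAC : A ≤ C := fun a ha => mem_centralizer_singleton_iff.2
    (congrArg Subtype.val (hA.1.is_comm.comm ⟨a, ha⟩ ⟨t, htA⟩))
  obtain ⟨R, hR⟩ :=
    ((CfsgLib.Transitivity.isPGroup_of_elab hA).comap_subtype : IsPGroup 2 (A.subgroupOf C)).exists_le_sylow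
  set Rm := (R : Subgroup C).map C.subtype with hRm
  have hRp : IsPGroup 2 Rm := R.2.map _
  have hARm : A ≤ Rm := fun a ha => ⟨⟨a, hAC ha⟩, hR ha, rfl⟩
  have h4 : 2 ^ 2 ≤ Nat.card A := le_trans (by norm_num) h8
  -- `R ≤ N(W)`
  have hRM : Rm ≤ M := by
    haveI := hRp.isNilpotent
    refine subgroupOf_eq_top.1 (by_contra fun hne => ?_)
    obtain ⟨g, hg, hgM⟩ := SetLike.exists_of_lt
      (Group.normalizerCondition_of_isNilpotent (M.subgroupOf Rm) (lt_top_iff_ne_top.2 hne))
    refine hgM (mem_subgroupOf.2 (h.key hA h4 hAM (g := (g : G)) ?_))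
    rintro _ ⟨a, ha, rfl⟩
    exact ((mem_normalizer_iff.1 hg (⟨a, hARm ha⟩ : Rm)).1 (mem_subgroupOf.2 (hAM ha)) :)
  -- the Sylow subgroup of `O_{2',2}`
  obtain ⟨T, hT⟩ := CfsgLib.MaxNormalizer.exists_sylow_normal R (pPrimePCore 2 C)
  set Tc := (T : Subgroup (pPrimePCore 2 C)).map (pPrimePCore 2 C).subtype with hTc
  have hTR : Tc ≤ (R : Subgroup C) := by
    rintro _ ⟨x, hx, rfl⟩
    exact (hT x).1 hx
  set O := pPrimeCore 2 C with hO
  have hOM : ∀ x ∈ O, (x : G) ∈ M := fun x hx =>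
    le_normalizer (hth ⟨x, hx, rfl⟩)
  have htop := CfsgLib.PLocal.normalizer_sylow_pPrimePCore_sup (G := C) T
  suffices hN : ∀ n ∈ normalizer (Tc : Set C), (n : G) ∈ M by
    intro c hc
    obtain ⟨n, hn, o, ho', e⟩ := mem_sup_of_normal_right.1
      (htop.symm ▸ mem_top (⟨c, hc⟩ : C) : (⟨c, hc⟩ : C) ∈ normalizer (Tc : Set C) ⊔ O)
    rw [show c = (n : G) * o from (congrArg Subtype.val e).symm]
    exact mul_mem (hN n hn) (hOM o ho')
  by_cases hfour : ∃ x y : C, x ∈ Tc ∧ y ∈ Tc ∧ x ^ 2 = 1 ∧ y ^ 2 = 1 ∧ x ≠ 1 ∧ y ≠ 1 ∧ x ≠ y ∧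
      x * y = y * x
  · obtain ⟨x, y, hxT, hyT, hx2, hy2, hx1, hy1, hxy, hc⟩ := hfour
    intro n hn
    let F : Subgroup C := zpowers x ⊔ zpowers y
    have hF : IsElementaryAbelian 2 F := CfsgLib.SolvSig.isElementaryAbelian_sup (elab_zpowers hx2)
      (elab_zpowers hy2) (zpowers_le.2 (mem_centralizer_iff.2 fun z hz => by
        obtain ⟨k, rfl⟩ := mem_zpowers_iff.1 hz
        exact (Commute.zpow_left hc k).eq))
    have hFT : F ≤ Tc := sup_le (zpowers_le.2 hxT) (zpowers_le.2 hyT)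
    have hFm : IsElementaryAbelian 2 (F.map C.subtype) := CfsgLib.Transitivity.isElementaryAbelian_map hF _
    have hinto : ∀ z ∈ Tc, (z : G) ∈ M := fun z hz => hRM ⟨z, hTR hz, rfl⟩
    refine h.key hFm ?_ ?_ ?_
    · rw [card_map_of_injective C.subtype_injective]
      exact card_ge_four_of (mem_sup_left (mem_zpowers x)) (mem_sup_right (mem_zpowers y)) hx1 hy1 hxy hF
    · rintro _ ⟨z, hz, rfl⟩
      exact hinto z (hFT hz)
    · rintro _ ⟨_, ⟨z, hz, rfl⟩, rfl⟩
      exact hinto (n * z * n⁻¹) ((mem_normalizer_iff.1 hn z).1 (hFT hz))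
  -- one involution: the quotient is a 2-group
  · intro n _
    set π := QuotientGroup.mk' O
    have hTmap : Tc.map π = pCore 2 (C ⧸ O) := CfsgLib.PLocal.map_sylow_pPrimePCore T
    have hOcop : (Nat.card O).Coprime 2 := CfsgLib.PLocal.coprime_card_pPrimeCore 2 C
    have hinj : ∀ X : Subgroup C, IsPGroup 2 X → ∀ z ∈ X, π z = 1 → z = 1 := fun X hX z hz hz1 => by
      obtain ⟨i, hi⟩ := IsPGroup.iff_orderOf.1 hX ⟨z, hz⟩
      rw [orderOf_mk] at hi
      refine orderOf_eq_one_iff.1 (Nat.eq_one_of_dvd_coprimes (hOcop.pow_right i)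
        (Subgroup.orderOf_dvd_natCard O ((QuotientGroup.eq_one_iff z).1 hz1)) (hi ▸ dvd_rfl))
    have hTcp : IsPGroup 2 Tc := T.2.map _
    have hu : TwoGroupsQ.HasUniqueOrderP ↥(pCore 2 (C ⧸ O)) 2 := by
      have hTu : ∀ x y : C, x ∈ Tc → y ∈ Tc → x ^ 2 = 1 → x ≠ 1 → y ^ 2 = 1 → y ≠ 1 → x = y := by
        haveI : Nontrivial Tc ∨ ¬ Nontrivial Tc := em _
        intro x y hx hy hx2 hx1 hy2 hy1
        obtain ⟨z, hz, hz1, hzc, hz2⟩ : ∃ z ∈ Tc, z ≠ 1 ∧ (∀ w ∈ Tc, z * w = w * z) ∧ z ^ 2 = 1 := by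
          haveI : Nontrivial Tc := ⟨⟨⟨x, hx⟩, 1, fun e => hx1 (congrArg Subtype.val e)⟩⟩
          haveI := hTcp.center_nontrivial
          obtain ⟨w, hw⟩ := exists_prime_orderOf_dvd_card' (G := center Tc) 2 (by
            obtain ⟨k, hk⟩ := IsPGroup.iff_card.1 (hTcp.to_subgroup (center Tc))
            have hlt := Finite.one_lt_card (α := center Tc)
            rw [hk] at hlt ⊢
            rcases k with _ | k
            · simp at hlt
            · exact dvd_pow_self 2 (by omega))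
          have ho' : orderOf ((w : Tc) : C) = 2 := by rw [orderOf_coe, orderOf_coe, hw]
          refine ⟨((w : Tc) : C), (w : Tc).2, fun e => by simp [e] at ho', fun v hv =>
            congrArg Subtype.val (mem_center_iff.1 w.2 ⟨v, hv⟩).symm, ?_⟩
          rw [← ho', pow_orderOf_eq_one]
        have hz' : ∀ v ∈ Tc, v ^ 2 = 1 → v ≠ 1 → v = z := fun v hv hv2 hv1 => by_contra fun hne =>
          hfour ⟨v, z, hv, hz, hv2, hz2, hv1, hz1, hne, (hzc v hv).symm⟩
        exact (hz' x hx hx2 hx1).trans (hz' y hy hy2 hy1).symm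
      refine TwoGroupsQ.hasUniqueOrderP_two fun x y hx2 hx1 hy2 hy1 => ?_
      obtain ⟨a, ha, hax⟩ := (hTmap.symm ▸ x.2 : (x : C ⧸ O) ∈ Tc.map π)
      obtain ⟨b, hb, hby⟩ := (hTmap.symm ▸ y.2 : (y : C ⧸ O) ∈ Tc.map π)
      refine Subtype.ext ?_
      rw [← hax, ← hby]
      refine congrArg π (hTu a b ha hb ?_ ?_ ?_ ?_)
      · exact hinj Tc hTcp _ (Tc.pow_mem ha 2) (by rw [map_pow, hax]; exact congrArg Subtype.val hx2)
      · exact fun e => hx1 (Subtype.ext (by rw [← hax, e, map_one]; rfl))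
      · exact hinj Tc hTcp _ (Tc.pow_mem hb 2) (by rw [map_pow, hby]; exact congrArg Subtype.val hy2)
      · exact fun e => hy1 (Subtype.ext (by rw [← hby, e, map_one]; rfl))
    have hQp : IsPGroup 2 (C ⧸ O) := by
      refine isPGroup_of_unique (CfsgLib.Inv53.centralizer_pCore_le_quotient (h.constr t ho)) hu
        (A := (A.subgroupOf C).map π) (CfsgLib.Transitivity.isElementaryAbelian_map ?_ π) ?_
      · exact ⟨⟨⟨fun x y => Subtype.ext (Subtype.ext (congrArg Subtype.val
          (hA.1.is_comm.comm (⟨_, x.2⟩ : A) ⟨_, y.2⟩) :))⟩⟩, fun x hx => Subtype.ext (hA.2 _ hx)⟩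
      · refine h8.trans (le_of_eq ?_)
        rw [← Nat.card_congr (subgroupOfEquivOfLe hAC).toEquiv]
        refine Nat.card_congr (Equiv.ofBijective (fun x : A.subgroupOf C =>
          (⟨π x, mem_map_of_mem π x.2⟩ : (A.subgroupOf C).map π)) ⟨fun x y e => ?_, ?_⟩)
        · have h1 : π ((x : C)⁻¹ * y) = 1 := by
            have e' : π (x : C) = π (y : C) := congrArg Subtype.val e
            rw [map_mul, map_inv, e', inv_mul_cancel]
          exact Subtype.ext (inv_mul_eq_one.1 (hinj _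
            ((CfsgLib.Transitivity.isPGroup_of_elab hA).comap_subtype) _ (mul_mem (inv_mem x.2) y.2) h1))
        · rintro ⟨_, ⟨x, hx, rfl⟩⟩
          exact ⟨⟨x, hx⟩, rfl⟩
    have hidx : (R : Subgroup C).map π = ⊤ := by
      obtain ⟨k, hk⟩ := IsPGroup.iff_card.1 hQp
      obtain ⟨i, -, hi⟩ := (Nat.dvd_prime_pow Nat.prime_two).1
        (hk ▸ Subgroup.index_dvd_card ((R : Subgroup C).map π))
      refine index_eq_one.1 ?_
      rcases i with _ | i
      · simpa using hi
      · exfalso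
        refine R.not_dvd_index (dvd_trans ⟨2 ^ i, by ring⟩
          (hi ▸ Subgroup.index_map_dvd (R : Subgroup C) (QuotientGroup.mk'_surjective O)))
    obtain ⟨r, hr, e⟩ := (hidx.symm ▸ mem_top (π n) : π n ∈ (R : Subgroup C).map π)
    have : (n : G) = (r : G) * ((r⁻¹ * n : C) : G) := by simp
    rw [this]
    exact mul_mem (hRM ⟨r, hr, rfl⟩) (hOM _ (QuotientGroup.eq.1 e))

/-- The cores of strongly embedded subgroups lie in the core of the group. -/
def CoreInCore (G : Type u) [Group G] : Prop :=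
  ∀ H : Subgroup G, IsStronglyEmbedded H → (oddCore ↥H).map H.subtype ≤ oddCore G

/-- **All cores of involution centralisers are trivial.** -/
theorem Setting.th_eq_bot (h : Setting S E) (hB : CoreInCore G) (hO : oddCore G = ⊥) {t : G}
    (ho : orderOf t = 2) : centralizerPPrimeCore 2 t = ⊥ := by
  classical
  haveI : Fact (Nat.Prime 2) := ⟨Nat.prime_two⟩
  set M := normalizer (cl E : Set G) with hM
  have hodd := h.cl_odd
  have hW : cl E = ⊥ := by
    refine le_bot_iff.1 (hO ▸ ?_)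
    by_cases htop : M = ⊤
    · haveI : (cl E).Normal := normalizer_eq_top_iff.1 htop
      exact CfsgLib.PLocal.le_pPrimeCore (Nat.coprime_two_right.2 hodd)
    have heven : Even (Nat.card M) := by
      obtain ⟨z, hz, hz1, -⟩ := h.exists_central
      rw [even_iff_two_dvd]
      have := Subgroup.orderOf_dvd_natCard M (h.sylow_le_normalizer (h.le_S hz))
      rwa [orderOf_eq_prime (h.elab_E.2 z hz) hz1] at this
    have hse : IsStronglyEmbedded M := by
      rw [CfsgLib.Small.isStronglyEmbedded_iff_centralizer htop heven]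
      refine ⟨fun s hs hos => h.centralizer_le hs hos, fun s hs r hr hos hor hconj => ?_⟩
      obtain ⟨g, hg⟩ := isConj_iff.1 hconj
      obtain ⟨A, hA, h8, hAM, hsA, -⟩ := h.exists_eight hs hos
      refine ⟨g, h.key hA (le_trans (by norm_num) h8) hAM ?_, hg⟩
      refine le_trans ?_ (h.centralizer_le hr hor)
      rintro _ ⟨a, ha, rfl⟩
      rw [mem_centralizer_singleton_iff, ← hg]
      have hc : a * s = s * a := congrArg Subtype.val (hA.1.is_comm.comm ⟨a, ha⟩ ⟨s, hsA⟩)
      show g * a * g⁻¹ * (g * s * g⁻¹) = g * s * g⁻¹ * (g * a * g⁻¹)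
      rw [show g * a * g⁻¹ * (g * s * g⁻¹) = g * (a * s) * g⁻¹ by group, hc]
      group
    refine le_trans ?_ (hB M hse)
    intro x hx
    refine ⟨⟨x, le_normalizer hx⟩, ?_, rfl⟩
    haveI : ((cl E).subgroupOf M).Normal := normal_in_normalizer
    exact CfsgLib.PLocal.le_pPrimeCore (Nat.coprime_two_right.2
      (by rwa [Nat.card_congr (subgroupOfEquivOfLe (le_normalizer : cl E ≤ M)).toEquiv]))
      (mem_subgroupOf.2 hx)
  obtain ⟨g, hg⟩ : ∃ g : G, g * t * g⁻¹ ∈ (S : Subgroup G) := by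
    obtain ⟨Q, hQ⟩ := (CfsgLib.ZCGroup.isPGroup_zpowers_of_orderOf ho).exists_le_sylow
    obtain ⟨g, hg⟩ := MulAction.exists_smul_eq G Q S
    exact ⟨g, hg ▸ ⟨t, hQ (mem_zpowers t), rfl⟩⟩
  obtain ⟨-, -, -, -, -, hth⟩ := h.exists_eight (h.sylow_le_normalizer hg)
    ((MulEquiv.orderOf_eq (MulAut.conj g) t).trans ho)
  rw [hW, le_bot_iff, th_conj, Subgroup.map_eq_bot_iff_of_injective _ (MulAut.conj g).injective] at hth
  exact hth

end CfsgLib.CoreKill63
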